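import Cfsg.Agent.H809.Evn.Odd
import Cfsg.Agent.H665.LeonW
import Cfsg.Agent.H30.OneClass

/-!
# S4929: cyclic Sylow subgroups (helper809)

`exists_even_of_real_cyclic` : cyclic Sylow `p`-subgroups (`p` odd), an element of order `p` conjugate to its inverse.
-/

set_option autoImplicit false

open Cfsg
open scoped ComplexConjugate

namespace Cfsg.Agent.H809.Evn

variable {G : Type*} [Group G] [Finite G] {p : ℕ} [Fact p.Prime] {M : Ideal AlgInt}

/-- In a group with cyclic Sylow `p`-subgroups the centralizer of an element `z ≠ 1` of order a power of `p` has a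
normal `p`-complement. -/
theorem nilp_of_cyclic (hcyc : ∀ P : Sylow p G, IsCyclic (P : Subgroup G)) (z : G) (hz : ∃ k : ℕ, orderOf z = p ^ k)
    (hz1 : z ≠ 1) : ∃ k : ℕ, (pPrimeCore p (Subgroup.centralizer ({z} : Set G))).index = p ^ k := by
  apply Cfsg.Agent.H30.OneClass.index_pPrimeCore
  set H := Subgroup.centralizer ({z} : Set G) with hH
  have hzH : z ∈ H := Subgroup.mem_centralizer_singleton_iff.2 rfl
  let z' : H := ⟨z, hzH⟩
  have hcom : ∀ x : H, x * z' = z' * x := fun x =>
    Subtype.ext (Subgroup.mem_centralizer_singleton_iff.1 x.2)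
  obtain ⟨T⟩ : Nonempty (Sylow p H) := inferInstance
  have hT : IsCyclic (T : Subgroup H) := by
    have h1 : IsPGroup p ((T : Subgroup H).map H.subtype) := T.isPGroup'.map _
    obtain ⟨P, hP⟩ := h1.exists_le_sylow
    have := hcyc P
    have h2 : IsCyclic ((T : Subgroup H).map H.subtype) :=
      isCyclic_of_injective (Subgroup.inclusion hP) (Subgroup.inclusion_injective hP)
    exact isCyclic_of_injective ((T : Subgroup H).equivMapOfInjective H.subtype H.subtype_injective).toMonoidHom
      (MulEquiv.injective _)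
  have hzT : z' ∈ (T : Subgroup H) := by
    have h1 : IsPGroup p (Subgroup.zpowers z') := by
      obtain ⟨k, hk⟩ := hz
      refine IsPGroup.of_card (n := k) ?_
      rw [Nat.card_zpowers, ← hk]
      exact (Subgroup.orderOf_coe z').symm
    have h2 : (Subgroup.zpowers z').Normal := ⟨fun n hn g => by
      obtain ⟨i, rfl⟩ := Subgroup.mem_zpowers_iff.1 hn
      have h3 : Commute g z' := hcom g
      rw [(h3.zpow_right i).eq, mul_inv_cancel_right]
      exact Subgroup.zpow_mem_zpowers _ _⟩
    exact h1.le_sylow_of_normal T (Subgroup.mem_zpowers z')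
  have hne : z' ≠ 1 := fun h => hz1 (congrArg Subtype.val h)
  have hNC : Subgroup.normalizer ((T : Subgroup H) : Set H) ≤ Subgroup.centralizer ((T : Subgroup H) : Set H) :=
    fun n hn => Cfsg.Agent.H665.LeonW.mem_centralizer_of_commute hT hzT hne hn (hcom n)
  exact ⟨T, (MonoidHom.transferSylow T hNC).ker, inferInstance, MonoidHom.ker_transferSylow_isComplement' T hNC⟩

/-- **The criterion** for cyclic Sylow `p`-subgroups, `p` odd: a real `p`-element `z ≠ 1`. -/
theorem exists_even_of_real_cyclic (hM : IsPModular p M) (hp2 : p ≠ 2)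
    (hcyc : ∀ P : Sylow p G, IsCyclic (P : Subgroup G)) (z : G) (hz : ∃ k : ℕ, orderOf z = p ^ k) (hz1 : z ≠ 1)
    (hr : IsConj z z⁻¹) : ∃ χ : IrrCharacter G, χ ∈ principalBlock M G ∧ 2 ∣ charDegree (χ : G → ℂ) :=
  exists_even_of_real hM hp2 z hz hz1 hr rfl (nilp_of_cyclic hcyc z hz hz1)

end Cfsg.Agent.H809.Evn
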