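import Cfsg.Agent.H684.CoverCount
import Cfsg.Agent.H334.Rec.Amb
import Cfsg.Agent.S4886
import Cfsg.Agent.S0205
import Cfsg.Agent.Lib.PSolvable
import Cfsg.Agent.Blocks.PrincipalInflate
import Cfsg.Prelude.Def_Sporadic

/-!
# S4928: reduction to S4929 (helper809)

`main` : the statement S4928 from the statement S4929 (`AllEvn`) and the theorem of Ito and Michler for the prime two
(`IMTwo`).
-/

set_option autoImplicit false
set_option linter.unusedSectionVars false

open Cfsg Cfsg.Agent.Blocks.Basic Cfsg.Agent.Blocks.Local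
open scoped ComplexConjugate

namespace Cfsg.Agent.H809.Evn

open Cfsg.Agent.Characters.Core (finite_irr isIrr_isCharacter)

universe u

/-- the statement S4929 -/
def AllEvn : Prop := ∀ (S : Type u) [Group S] [Finite S] [IsSimpleGroup S], ¬ IsMulCommutative S →
  ∀ (p : ℕ) [Fact p.Prime], p ≠ 2 → p ∣ Nat.card S → ∀ M : Ideal AlgInt, IsPModular p M → ¬ (p = 7 ∧ IsM22 S) →
    ∃ χ : IrrCharacter S, χ ∈ principalBlock M S ∧ 2 ∣ charDegree (χ : S → ℂ)

/-- the theorem of Ito and Michler for the prime two (normality) -/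
def IMTwo : Prop := ∀ (G : Type u) [Group G] [Finite G] (P : Sylow 2 G),
  (∀ χ : IrrCharacter G, ¬ 2 ∣ charDegree (χ : G → ℂ)) → (P : Subgroup G).Normal

variable {p : ℕ} [Fact p.Prime] {M : Ideal AlgInt}

/-- going up -/
theorem exists_even_over {G : Type u} [Group G] [Finite G] (hM : IsPModular p M) (N : Subgroup G) [N.Normal]
    (h : ∃ χ : IrrCharacter N, χ ∈ principalBlock M N ∧ 2 ∣ charDegree (χ : N → ℂ)) :
    ∃ χ : IrrCharacter G, χ ∈ principalBlock M G ∧ 2 ∣ charDegree (χ : G → ℂ) := by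
  have := Fintype.ofFinite G
  have := Fintype.ofFinite N
  obtain ⟨θ, hθ, h2⟩ := h
  obtain ⟨χ, hχ, hover⟩ := Cfsg.Agent.H684.CoverCount.exists_over hM N θ hθ
  exact ⟨χ, hχ, h2.trans (Cfsg.Agent.S0887.result N (χ : G → ℂ) χ.2 (θ : N → ℂ) θ.2 hover _ _
    (irr_one_eq_charDegree χ.2) (irr_one_eq_charDegree θ.2)).1⟩

theorem exists_even_congr {G H : Type u} [Group G] [Group H] [Finite G] [Finite H] (hM : IsPModular p M) (e : G ≃* H)
    (h : ∃ χ : IrrCharacter G, χ ∈ principalBlock M G ∧ 2 ∣ charDegree (χ : G → ℂ)) :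
    ∃ χ : IrrCharacter H, χ ∈ principalBlock M H ∧ 2 ∣ charDegree (χ : H → ℂ) := by
  obtain ⟨χ, hχ, h2⟩ := h
  refine ⟨_, Cfsg.Agent.H684.BlockTools.infl_mem hM e.symm.toMonoidHom e.symm.surjective hχ, ?_⟩
  have : charDegree ((Cfsg.Agent.H684.BlockTools.infl e.symm.toMonoidHom e.symm.surjective χ : IrrCharacter H) : H → ℂ) =
      charDegree (χ : G → ℂ) := by
    apply charDegree_of_eq
    show (χ : G → ℂ) (e.symm 1) = _
    rw [map_one, irr_one_eq_charDegree χ.2]
  rw [this]
  exact h2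

/-- the hypothesis goes down to quotients -/
theorem all_quot {G : Type u} [Group G] [Finite G] (hM : IsPModular p M) (N : Subgroup G) [N.Normal]
    (h : ∀ χ : IrrCharacter G, χ ∈ principalBlock M G → Odd (charDegree (χ : G → ℂ))) :
    ∀ χ : IrrCharacter (G ⧸ N), χ ∈ principalBlock M (G ⧸ N) → Odd (charDegree (χ : G ⧸ N → ℂ)) := by
  intro χ hχ
  have h1 := h _ (Cfsg.Agent.H684.BlockTools.infl_mem hM (QuotientGroup.mk' N) (QuotientGroup.mk'_surjective N) hχ)
  have : charDegree ((Cfsg.Agent.H684.BlockTools.infl (QuotientGroup.mk' N) (QuotientGroup.mk'_surjective N) χ :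
      IrrCharacter G) : G → ℂ) = charDegree (χ : G ⧸ N → ℂ) := by
    apply charDegree_of_eq
    show (χ : G ⧸ N → ℂ) ((QuotientGroup.mk' N) 1) = _
    rw [map_one, irr_one_eq_charDegree χ.2]
  rwa [this] at h1

/-- the easy direction -/
theorem all_of_odd {G : Type u} [Group G] [Finite G] (hM : IsPModular p M) (hodd : Odd (pPrimeCore p G).index) :
    ∀ χ : IrrCharacter G, χ ∈ principalBlock M G → Odd (charDegree (χ : G → ℂ)) := by
  intro χ hχ
  have := Fintype.ofFinite G
  have hN : (pPrimeCore p G).Normal := Cfsg.Agent.Lib.Cores.pPrimeCore_normal p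
  have hp : p.Prime := Fact.out
  refine Odd.of_dvd_nat hodd (Cfsg.Agent.S4886.charDegree_dvd_index (pPrimeCore p G) χ fun n hn =>
    Cfsg.Agent.Blocks.PrincipalKernel.principalBlock_apply_eq hM
      ((Nat.Prime.coprime_iff_not_dvd hp).1 (Cfsg.Agent.Lib.Cores.pPrimeCore_coprime p).symm) hχ hn)

theorem main_aux (hA : AllEvn.{u}) (hIM : IMTwo.{u}) (hp2 : p ≠ 2) (hM : IsPModular p M) (n : ℕ) :
    ∀ (G : Type u) [Group G] [Finite G], Nat.card G = n → (p ≠ 7 ∨ ¬ (443520 ∣ Nat.card G)) →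
      (∀ χ : IrrCharacter G, χ ∈ principalBlock M G → Odd (charDegree (χ : G → ℂ))) →
      Odd (pPrimeCore p G).index := by
  have hp : p.Prime := Fact.out
  induction n using Nat.strong_induction_on with
  | _ n ih =>
  intro G _ _ hn h7 hall
  have hO : (pPrimeCore p G).Normal := Cfsg.Agent.Lib.Cores.pPrimeCore_normal p
  -- quotients
  have hquot : ∀ (N : Subgroup G) [N.Normal], N ≠ ⊥ → Odd (pPrimeCore p (G ⧸ N)).index := by
    intro N _ hN
    have hdvd : Nat.card (G ⧸ N) ∣ Nat.card G := Subgroup.card_quotient_dvd_card N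
    refine ih (Nat.card (G ⧸ N)) ?_ (G ⧸ N) rfl ?_ (all_quot hM N hall)
    · rw [← hn]
      refine lt_of_le_of_ne (Nat.le_of_dvd Nat.card_pos hdvd) ?_
      intro he
      apply hN
      have h1 := N.card_mul_index
      rw [Subgroup.index, he] at h1
      have h2 : Nat.card N = 1 := by
        have h3 : 0 < Nat.card G := Nat.card_pos
        nlinarith
      exact Subgroup.card_eq_one.1 h2
    · rcases h7 with h | h
      · exact Or.inl h
      · exact Or.inr fun h' => h (h'.trans hdvd)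
  by_cases hOb : pPrimeCore p G = ⊥
  swap
  · -- `O_{p'}(G) ≠ 1`
    have h1 := hquot (pPrimeCore p G) hOb
    have h2 : pPrimeCore p (G ⧸ pPrimeCore p G) = ⊥ := Cfsg.Agent.Lib.Cores.pPrimeCore_quotient_pPrimeCore p
    rw [h2, Subgroup.index_bot] at h1
    exact h1
  by_cases htriv : Subsingleton G
  · have : (pPrimeCore p G).index = 1 := by
      rw [Subgroup.index_eq_one]
      exact Subsingleton.elim _ _
    rw [this]
    exact odd_one
  rw [not_subsingleton_iff_nontrivial] at htriv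
  obtain ⟨N, hN, hNne, hNmin⟩ : ∃ N : Subgroup G, N.Normal ∧ N ≠ ⊥ ∧
      ∀ M : Subgroup G, M.Normal → M ≤ N → M = ⊥ ∨ M = N := by
    have hfin : {T : Subgroup G | T.Normal ∧ T ≠ ⊥}.Finite := Set.toFinite _
    have hne : {T : Subgroup G | T.Normal ∧ T ≠ ⊥}.Nonempty := ⟨⊤, inferInstance, top_ne_bot⟩
    obtain ⟨T, ⟨hT0, hTn⟩, hTmin⟩ := hfin.exists_minimal hne
    refine ⟨T, hT0, hTn, fun S hS hST => ?_⟩
    by_cases hS0 : S = ⊥
    · exact Or.inl hS0
    · exact Or.inr (le_antisymm hST (hTmin ⟨hS, hS0⟩ hST))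
  obtain ⟨T, hTN, hTs, hTn, hTp⟩ := Cfsg.Agent.H334.Rec.exists_simple N hNne hNmin
  have hpN : p ∣ Nat.card N := by
    by_contra h
    apply hNne
    rw [eq_bot_iff, ← hOb]
    exact Cfsg.Agent.Lib.HallHigman.le_pPrimeCore hN ((Nat.Prime.coprime_iff_not_dvd hp).2 h).symm
  have hpT := hTp p hp hpN
  by_cases hcomm : IsMulCommutative T
  · -- the abelian case
    have hTprime := Cfsg.Agent.H334.Rec.prime_of_comm hTs hcomm
    have hTcard : Nat.card T = p := ((Nat.prime_dvd_prime_iff_eq hp hTprime).1 hpT).symm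
    have hNp : ∃ m : ℕ, Nat.card N = p ^ m := by
      refine ⟨_, Nat.eq_prime_pow_of_unique_prime_dvd Nat.card_pos.ne' fun {q} hq hd => ?_⟩
      have := hTp q hq hd
      rw [hTcard] at this
      exact (Nat.prime_dvd_prime_iff_eq hq hp).1 this
    have h1 := hquot N hNne
    have hO1 : (pPrimeCore p (G ⧸ N)).Normal := Cfsg.Agent.Lib.Cores.pPrimeCore_normal p
    have hps : IsPSolvable p G := by
      refine Cfsg.Agent.Lib.PSolvable.IsPSolvable_of_quotient p N (Or.inl hNp) ?_
      refine Cfsg.Agent.Lib.PSolvable.IsPSolvable_of_quotient p (pPrimeCore p (G ⧸ N))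
        (Or.inr (Cfsg.Agent.Lib.Cores.pPrimeCore_coprime p)) ?_
      have : Group.IsSolvable ((G ⧸ N) ⧸ pPrimeCore p (G ⧸ N)) := Cfsg.Agent.S0205.result h1
      exact Cfsg.Agent.Lib.PSolvable.IsPSolvable_of_solvable p
    have hB := Cfsg.Agent.SuzukiRankOne.M1Average.principalBlock_eq hM hps
    obtain ⟨P⟩ : Nonempty (Sylow 2 G) := inferInstance
    have hP := hIM G P fun χ h => by
      have h2 : χ ∈ principalBlock M G := by
        rw [hB]
        intro n hn
        rw [hOb, Subgroup.mem_bot] at hn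
        rw [hn]
      exact (Nat.not_even_iff_odd.2 (hall χ h2)) (even_iff_two_dvd.2 h)
    have hPO : (P : Subgroup G) ≤ pPrimeCore p G := by
      refine Cfsg.Agent.Lib.HallHigman.le_pPrimeCore hP ?_
      obtain ⟨k, hk⟩ := IsPGroup.iff_card.1 P.isPGroup'
      rw [hk]
      exact Nat.Coprime.pow_left _ ((Nat.coprime_primes Nat.prime_two hp).2 hp2.symm)
    rw [hOb, le_bot_iff] at hPO
    rw [hOb, Subgroup.index_bot, ← Nat.not_even_iff_odd, even_iff_two_dvd]
    have h3 := P.not_dvd_index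
    rw [hPO, Subgroup.index_bot] at h3
    exact h3
  · -- the nonabelian case
    exfalso
    have hT22 : ¬ (p = 7 ∧ IsM22 T) := by
      rintro ⟨hp7, hm⟩
      rcases h7 with h | h
      · exact h hp7
      · apply h
        have : Nat.card T = 443520 := hm.2
        rw [← this]
        exact Subgroup.card_subgroup_dvd_card T
    have h1 := hA T hcomm p hp2 hpT M hM hT22
    have hTN' : (T.subgroupOf N).Normal := by
      rw [Subgroup.normal_subgroupOf_iff hTN]
      intro t n ht hn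
      exact (Subgroup.mem_normalizer_iff.1 (hTn hn) t).1 ht
    have h2 := exists_even_congr hM (Subgroup.subgroupOfEquivOfLe hTN).symm h1
    have h3 := exists_even_over hM (T.subgroupOf N) h2
    obtain ⟨χ, hχ, h4⟩ := exists_even_over hM N h3
    exact (Nat.not_even_iff_odd.2 (hall χ hχ)) (even_iff_two_dvd.2 h4)

/-- **S4928 from S4929** -/
theorem main (hA : AllEvn.{u}) (hIM : IMTwo.{u}) {G : Type u} [Group G] [Finite G] (hp2 : p ≠ 2)
    (h7 : p ≠ 7 ∨ ¬ (443520 ∣ Nat.card G)) (hM : IsPModular p M) :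
    (∀ χ : IrrCharacter G, χ ∈ principalBlock M G → Odd (charDegree (χ : G → ℂ))) ↔ Odd (pPrimeCore p G).index :=
  ⟨fun h => main_aux hA hIM hp2 hM _ G rfl h7 h, all_of_odd hM⟩

end Cfsg.Agent.H809.Evn
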