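import Cfsg.Agent.H809.Evn.Crit
import Cfsg.Agent.Blocks.PrincipalInflate
import Cfsg.Agent.S0161

/-!
# S4928 / S4929: real `p`-elements, centralizers with an odd quotient (helper809)

* `odd_sum` : if every nontrivial real character of the principal block has even degree, then `∑ ψ(1)²` over the
  principal block is odd;
* `exists_even_of_real'` : a real `p`-element `z ≠ 1` such that the nontrivial real characters in `B₀(C_G(z))` have
  even degree;
* `exists_even_of_real_odd` : `C_G(z) / O_{p'}(C_G(z))` of odd order.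
-/

set_option autoImplicit false
set_option linter.unusedSectionVars false

open Cfsg Cfsg.Agent.Blocks.Basic Cfsg.Agent.Blocks.Local
open scoped ComplexConjugate

namespace Cfsg.Agent.H809.Evn

open Cfsg.Agent.Characters.Core (finite_irr isIrr_isCharacter)

section

variable {K : Type*} [Group K] [Finite K] {p : ℕ} [Fact p.Prime] {M : Ideal AlgInt}

/-- the trivial character -/
def one' (K : Type*) [Group K] : IrrCharacter K := ⟨fun _ => 1, isIrrCharacter_one⟩

/-- the complex conjugate character -/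
noncomputable def cj (χ : IrrCharacter K) : IrrCharacter K :=
  ⟨fun g => conj ((χ : K → ℂ) g), Cfsg.Agent.Characters.Core.isIrr_conj χ.2⟩

theorem cj_apply (χ : IrrCharacter K) (g : K) : (cj χ : K → ℂ) g = conj ((χ : K → ℂ) g) := rfl

theorem cj_cj (χ : IrrCharacter K) : cj (cj χ) = χ := by
  apply Subtype.ext
  funext g
  exact Complex.conj_conj _

theorem cj_one : cj (one' K) = one' K := by
  apply Subtype.ext
  funext g
  exact map_one _

theorem charDegree_cj (χ : IrrCharacter K) : charDegree (cj χ : K → ℂ) = charDegree (χ : K → ℂ) := by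
  apply charDegree_of_eq
  rw [cj_apply, irr_one_eq_charDegree χ.2, map_natCast]

theorem centralizer_inv_singleton (g : K) :
    Subgroup.centralizer ({g⁻¹} : Set K) = Subgroup.centralizer ({g} : Set K) := by
  ext x
  rw [Subgroup.mem_centralizer_singleton_iff, Subgroup.mem_centralizer_singleton_iff]
  exact ⟨fun h => (Commute.inv_right_iff.1 (show Commute x g⁻¹ from h)).eq,
    fun h => (Commute.inv_right_iff.2 (show Commute x g from h)).eq⟩

theorem cj_mem {χ : IrrCharacter K} (h : χ ∈ principalBlock M K) : cj χ ∈ principalBlock M K := by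
  intro g
  have h1 := h g⁻¹
  have h3 : centralChar (fun _ : K => (1 : ℂ)) g⁻¹ - centralChar (χ : K → ℂ) g⁻¹ =
      centralChar (fun _ : K => (1 : ℂ)) g - centralChar (cj χ : K → ℂ) g := by
    unfold centralChar
    rw [centralizer_inv_singleton, cj_apply, cj_apply,
      Cfsg.Agent.Characters.Core.isCharacter_apply_inv (isIrr_isCharacter χ.2),
      irr_one_eq_charDegree χ.2, map_natCast]
  rwa [h3] at h1

theorem odd_sum (hM : IsPModular p M)
    (h : ∀ ψ ∈ principalBlock M K, ψ ≠ one' K → cj ψ = ψ → 2 ∣ charDegree (ψ : K → ℂ)) :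
    ∃ n : ℕ, Odd n ∧ ∑ᶠ ξ ∈ principalBlock M K, (ξ : K → ℂ) 1 * conj ((ξ : K → ℂ) 1) = n := by
  classical
  have hprime := isPrime_of_isPModular hM
  have : Finite (IrrCharacter K) := finite_irr
  have := Fintype.ofFinite (IrrCharacter K)
  rw [finsum_mem_eq_finite_toFinset_sum _ (Set.toFinite _)]
  set t := (Set.toFinite (principalBlock M K)).toFinset with ht
  have hmem : ∀ χ, χ ∈ t ↔ χ ∈ principalBlock M K := fun χ => Set.Finite.mem_toFinset _
  have h1 : one' K ∈ t := (hmem _).2 Cfsg.Agent.Blocks.PrincipalSection.one_mem_principalBlock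
  refine ⟨∑ χ ∈ t, charDegree (χ : K → ℂ) ^ 2, ?_, ?_⟩
  · rw [← Finset.add_sum_erase t _ h1]
    have h2 : charDegree (one' K : K → ℂ) = 1 := charDegree_of_eq (by simp [one'])
    have h3 : Even (∑ χ ∈ t.erase (one' K), charDegree (χ : K → ℂ) ^ 2) := by
      rw [even_iff_two_dvd, ← ZMod.natCast_eq_zero_iff]
      push_cast
      refine Finset.sum_involution (fun χ _ => cj χ) ?_ ?_ ?_ ?_
      · intro χ _
        rw [charDegree_cj]
        exact CharTwo.add_self_eq_zero _
      · intro χ hχ h4 h5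
        rw [Finset.mem_erase, hmem] at hχ
        apply h4
        have h6 : ((charDegree (χ : K → ℂ) : ℕ) : ZMod 2) = 0 := (ZMod.natCast_eq_zero_iff _ _).2 (h χ hχ.2 hχ.1 h5)
        rw [h6]
        exact zero_pow two_ne_zero
      · intro χ hχ
        rw [Finset.mem_erase, hmem] at hχ ⊢
        refine ⟨fun h4 => hχ.1 ?_, cj_mem hχ.2⟩
        rw [← cj_cj χ, h4, cj_one]
      · intro χ _
        exact cj_cj χ
    rw [h2, one_pow]
    exact h3.one_add
  · push_cast
    refine Finset.sum_congr rfl fun χ _ => ?_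
    rw [irr_one_eq_charDegree χ.2, map_natCast, pow_two]

end

variable {G : Type*} [Group G] [Finite G] {p : ℕ} [Fact p.Prime] {M : Ideal AlgInt}

/-- **The criterion, general form**: a real `p`-element `z ≠ 1`; every nontrivial real character of `B₀(C_G(z))` has
even degree. (Any prime `p`.) -/
theorem exists_even_of_real' (hM : IsPModular p M) (z : G) (hz : ∃ k : ℕ, orderOf z = p ^ k)
    (hz1 : z ≠ 1) (hr : IsConj z z⁻¹) {H : Subgroup G} (hH : H = Subgroup.centralizer ({z} : Set G))
    (h : ∀ ψ ∈ principalBlock M H, ψ ≠ one' H → cj ψ = ψ → 2 ∣ charDegree (ψ : H → ℂ)) :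
    ∃ χ : IrrCharacter G, χ ∈ principalBlock M G ∧ 2 ∣ charDegree (χ : G → ℂ) := by
  have hp : p.Prime := Fact.out
  by_contra hcon
  push Not at hcon
  have h1p : ¬ p ∣ orderOf (1 : H) := by
    rw [orderOf_one]; exact fun h => hp.one_lt.ne' (Nat.dvd_one.1 h)
  obtain ⟨a, ha, h1⟩ := two_dvd_local hM hcon z hz hz1 hH 1 h1p (by
    rw [OneMemClass.coe_one, mul_one]; exact hr)
  obtain ⟨n, hn, h2⟩ := odd_sum hM h
  rw [h2] at h1
  exact not_two_mul hn ha h1

/-- **The criterion**: a real `p`-element `z ≠ 1` with `C_G(z) / O_{p'}(C_G(z))` of odd order. -/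
theorem exists_even_of_real_odd (hM : IsPModular p M) (z : G) (hz : ∃ k : ℕ, orderOf z = p ^ k)
    (hz1 : z ≠ 1) (hr : IsConj z z⁻¹) {H : Subgroup G} (hH : H = Subgroup.centralizer ({z} : Set G))
    (hodd : Odd (pPrimeCore p H).index) :
    ∃ χ : IrrCharacter G, χ ∈ principalBlock M G ∧ 2 ∣ charDegree (χ : G → ℂ) := by
  refine exists_even_of_real' hM z hz hz1 hr hH fun ψ hψ hne hcj => ?_
  exfalso
  apply hne
  have hN : (pPrimeCore p H).Normal := Cfsg.Agent.Lib.Cores.pPrimeCore_normal p
  have hp : p.Prime := Fact.out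
  obtain ⟨χ, hχ⟩ := Cfsg.Agent.Blocks.PrincipalInflate.exists_deflate hM (N := pPrimeCore p H)
    ((Nat.Prime.coprime_iff_not_dvd hp).1 (Cfsg.Agent.Lib.Cores.pPrimeCore_coprime p).symm) hψ
  have h1 : (χ : H ⧸ pPrimeCore p H → ℂ) = fun _ => 1 := by
    refine Cfsg.Agent.S0161.result (by exact hodd) χ fun q => ?_
    obtain ⟨x, rfl⟩ := QuotientGroup.mk_surjective q
    have h2 : (ψ : H → ℂ) x = (χ : H ⧸ pPrimeCore p H → ℂ) (QuotientGroup.mk x) := by rw [hχ]; rfl
    rw [← h2]
    exact Complex.conj_eq_iff_im.1 (congrFun (congrArg Subtype.val hcj) x)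
  apply Subtype.ext
  rw [hχ, h1]
  rfl

end Cfsg.Agent.H809.Evn
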