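import Cfsg.Agent.Blocks.PrincipalSection
import Cfsg.Agent.Characters.GaloisBasic
import Cfsg.Agent.S0907

/-!
# S4928 / S4929: the parity criterion (helper809; idea: helper800)

If all characters of the principal `p`-block have odd degree and `g` is a real `p`-singular element with `p`-part `z`
and `p'`-part `s`, then `∑ |ξ s|²` over the principal block of `C_G(z)` is twice an algebraic integer.
In particular no real `p`-element `z ≠ 1` (`p` odd) has a centralizer with a normal `p`-complement.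
-/

set_option autoImplicit false

open Cfsg Cfsg.Agent.Blocks.Basic Cfsg.Agent.Blocks.Local
open scoped ComplexConjugate

namespace Cfsg.Agent.H809.Evn

open Cfsg.Agent.Characters.Core (finite_irr isIrr_isCharacter)

theorem sq_sum {ι : Type*} (t : Finset ι) (f : ι → ℂ) (hf : ∀ i ∈ t, IsIntegral ℤ (f i)) :
    ∃ b : ℂ, IsIntegral ℤ b ∧ (∑ i ∈ t, f i) * (∑ i ∈ t, f i) = (∑ i ∈ t, f i * f i) + 2 * b := by
  classical
  induction t using Finset.induction_on with
  | empty => exact ⟨0, isIntegral_zero, by simp⟩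
  | insert a t ha ih =>
    obtain ⟨b, hb, h⟩ := ih fun i hi => hf i (Finset.mem_insert_of_mem hi)
    have h1 : IsIntegral ℤ (∑ i ∈ t, f i) := IsIntegral.sum _ fun i hi => hf i (Finset.mem_insert_of_mem hi)
    refine ⟨b + f a * ∑ i ∈ t, f i, hb.add ((hf a (Finset.mem_insert_self _ _)).mul h1), ?_⟩
    rw [Finset.sum_insert ha, Finset.sum_insert ha]
    linear_combination h

variable {G : Type*} [Group G] [Finite G] {p : ℕ} [Fact p.Prime] {M : Ideal AlgInt}

/-- If all degrees of the principal block are odd, the sum of the squares of the values at a real `p`-singular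
element is twice an algebraic integer. -/
theorem two_dvd_block (hM : IsPModular p M) (hall : ∀ χ ∈ principalBlock M G, ¬ 2 ∣ charDegree (χ : G → ℂ))
    {y : G} (hy : p ∣ orderOf y) (hr : IsConj y y⁻¹) :
    ∃ a : ℂ, IsIntegral ℤ a ∧ ∑ᶠ χ ∈ principalBlock M G, (χ : G → ℂ) y * conj ((χ : G → ℂ) y) = 2 * a := by
  classical
  have hp : p.Prime := Fact.out
  have : Finite (IrrCharacter G) := finite_irr
  have := Fintype.ofFinite (IrrCharacter G)
  have hreal : ∀ χ : IrrCharacter G, conj ((χ : G → ℂ) y) = (χ : G → ℂ) y := fun χ => by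
    rw [← Cfsg.Agent.Characters.Core.isCharacter_apply_inv (isIrr_isCharacter χ.2)]
    obtain ⟨c, hc⟩ := isConj_iff.1 hr
    rw [← hc, Cfsg.Agent.Characters.Core.isIrr_isClassFunction χ.2]
  have horth := Cfsg.Agent.S0907.result p M hM _ (Cfsg.Agent.Blocks.PrincipalSection.isPBlock_principalBlock (K := G)) 1 y
    (by rw [orderOf_one]; exact fun h => hp.one_lt.ne' (Nat.dvd_one.1 h)) hy
  rw [finsum_mem_eq_finite_toFinset_sum _ (Set.toFinite _)] at horth ⊢
  set t := (Set.toFinite (principalBlock M G)).toFinset with ht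
  have hmem : ∀ χ ∈ t, χ ∈ principalBlock M G := fun χ hχ => (Set.Finite.mem_toFinset _).1 hχ
  have hint : ∀ χ ∈ t, IsIntegral ℤ ((χ : G → ℂ) y) := fun χ _ =>
    Cfsg.Agent.Characters.GaloisBasic.isIntegral_apply (isIrr_isCharacter χ.2) y
  choose! e he using fun (χ : IrrCharacter G) (hχ : χ ∈ t) =>
    (Nat.not_even_iff_odd.1 fun h => hall χ (hmem χ hχ) (even_iff_two_dvd.1 h) : Odd (charDegree (χ : G → ℂ)))
  have h1 : ∑ χ ∈ t, (χ : G → ℂ) y = -(2 * ∑ χ ∈ t, (e χ : ℂ) * (χ : G → ℂ) y) := by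
    have h2 : ∑ χ ∈ t, (χ : G → ℂ) 1 * conj ((χ : G → ℂ) y) =
        2 * (∑ χ ∈ t, (e χ : ℂ) * (χ : G → ℂ) y) + ∑ χ ∈ t, (χ : G → ℂ) y := by
      rw [Finset.mul_sum, ← Finset.sum_add_distrib]
      refine Finset.sum_congr rfl fun χ hχ => ?_
      rw [hreal, irr_one_eq_charDegree χ.2, he χ hχ]
      push_cast
      ring
    rw [h2] at horth
    linear_combination horth
  have hE : IsIntegral ℤ (∑ χ ∈ t, (e χ : ℂ) * (χ : G → ℂ) y) :=
    IsIntegral.sum _ fun χ hχ => (isIntegral_natCast _).mul (hint χ hχ)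
  obtain ⟨b, hb, h3⟩ := sq_sum t (fun χ : IrrCharacter G => (χ : G → ℂ) y) hint
  refine ⟨((2 : ℕ) : ℂ) * ((∑ χ ∈ t, (e χ : ℂ) * (χ : G → ℂ) y) * ∑ χ ∈ t, (e χ : ℂ) * (χ : G → ℂ) y) - b,
    ((isIntegral_natCast 2).mul (hE.mul hE)).sub hb, ?_⟩
  rw [Finset.sum_congr rfl fun χ _ => by rw [hreal χ]]
  rw [h1] at h3
  push_cast
  linear_combination -h3

/-- the local form -/
theorem two_dvd_local (hM : IsPModular p M) (hall : ∀ χ ∈ principalBlock M G, ¬ 2 ∣ charDegree (χ : G → ℂ))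
    (z : G) (hz : ∃ k : ℕ, orderOf z = p ^ k) (hz1 : z ≠ 1) {H : Subgroup G}
    (hH : H = Subgroup.centralizer ({z} : Set G)) (s : H) (hs : ¬ p ∣ orderOf s)
    (hr : IsConj (z * (s : G)) (z * (s : G))⁻¹) :
    ∃ a : ℂ, IsIntegral ℤ a ∧ ∑ᶠ ξ ∈ principalBlock M H, (ξ : H → ℂ) s * conj ((ξ : H → ℂ) s) = 2 * a := by
  have hp : p.Prime := Fact.out
  rw [← Cfsg.Agent.Blocks.PrincipalSection.sum_principalBlock_section hM z hz hH s s hs hs]
  refine two_dvd_block hM hall ?_ hr
  obtain ⟨k, hk⟩ := hz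
  have hzp : p ∣ orderOf z := by
    rw [hk]
    apply dvd_pow_self
    rintro rfl
    rw [pow_zero, orderOf_eq_one_iff] at hk
    exact hz1 hk
  have hc : Commute z (s : G) := by
    have h2 : (s : G) ∈ Subgroup.centralizer ({z} : Set G) := hH.le s.2
    exact (Subgroup.mem_centralizer_singleton_iff.1 h2).symm
  have hcop : Nat.Coprime (orderOf z) (orderOf (s : G)) := by
    rw [hk]
    refine Nat.Coprime.pow_left _ ((Nat.Prime.coprime_iff_not_dvd hp).2 ?_)
    rw [Subgroup.orderOf_coe]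
    exact hs
  rw [hc.orderOf_mul_eq_mul_orderOf_of_coprime hcop]
  exact hzp.mul_right _

/-- an odd natural number is not twice an algebraic integer -/
theorem not_two_mul {n : ℕ} (hn : Odd n) {a : ℂ} (ha : IsIntegral ℤ a) (h : (n : ℂ) = 2 * a) : False := by
  obtain ⟨k, hk⟩ := Cfsg.Agent.Characters.GaloisBasic.exists_int_of_isIntegral ha ⟨(n : ℚ) / 2, by
    push_cast
    linear_combination (-(1 : ℂ) / 2) * h⟩
  rw [hk] at h
  have h1 : (n : ℤ) = 2 * k := by exact_mod_cast h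
  obtain ⟨m, rfl⟩ := hn
  push_cast at h1
  omega

/-- **The criterion**: a real `p`-element whose centralizer has a normal `p`-complement (`p` odd). -/
theorem exists_even_of_real (hM : IsPModular p M) (hp2 : p ≠ 2) (z : G) (hz : ∃ k : ℕ, orderOf z = p ^ k)
    (hz1 : z ≠ 1) (hr : IsConj z z⁻¹) {H : Subgroup G} (hH : H = Subgroup.centralizer ({z} : Set G))
    (hnc : ∃ k : ℕ, (pPrimeCore p H).index = p ^ k) :
    ∃ χ : IrrCharacter G, χ ∈ principalBlock M G ∧ 2 ∣ charDegree (χ : G → ℂ) := by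
  have hp : p.Prime := Fact.out
  by_contra hcon
  push Not at hcon
  have h1p : ¬ p ∣ orderOf (1 : H) := by
    rw [orderOf_one]; exact fun h => hp.one_lt.ne' (Nat.dvd_one.1 h)
  obtain ⟨a, ha, h⟩ := two_dvd_local hM hcon z hz hz1 hH 1 h1p (by
    rw [OneMemClass.coe_one, mul_one]; exact hr)
  rw [Cfsg.Agent.Blocks.PrincipalSection.sum_principalBlock_of_pComplement hM hnc h1p h1p] at h
  exact not_two_mul ((hp.odd_of_ne_two hp2).pow) ha h

end Cfsg.Agent.H809.Evn
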